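import Mathlib

set_option autoImplicit false
universe u

namespace Groth.Agent.Lib.Helper5.JacMin

open Matrix

theorem det_mul_rect {S : Type*} [CommRing S] {r m : ℕ} (P : Matrix (Fin r) (Fin m) S)
    (N : Matrix (Fin m) (Fin r) S) :
    (P * N).det = ∑ σ : Fin r → Fin m, (∏ t, P t (σ t)) * (N.submatrix σ id).det := by
  have h1 : (P * N) = fun t => ∑ j, P t j • N j := by
    funext t u
    simp [Matrix.mul_apply, Finset.sum_apply]
  rw [h1]
  change Matrix.detRowAlternating (fun t => ∑ j, P t j • N j) = _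
  have h2 := (Matrix.detRowAlternating (n := Fin r) (R := S)).toMultilinearMap.map_sum
    (fun t j => P t j • N j)
  simp only [AlternatingMap.coe_multilinearMap] at h2
  rw [h2]
  refine Finset.sum_congr rfl fun σ _ => ?_
  have h3 := (Matrix.detRowAlternating (n := Fin r) (R := S)).toMultilinearMap.map_smul_univ
    (fun t => P t (σ t)) (fun t => N (σ t))
  simp only [AlternatingMap.coe_multilinearMap] at h3
  rw [h3, smul_eq_mul]
  rfl

variable {k : Type u} [Field k] {n : ℕ}

local notation "A" => MvPowerSeries (Fin n) k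

/-- the set of `r × r` minors of the Jacobian matrix of a family -/
def minors {m : ℕ} (r : ℕ) (f : Fin m → MvPowerSeries (Fin n) k) : Set (MvPowerSeries (Fin n) k) :=
  {d | ∃ (ρ : Fin r → Fin m) (γ : Fin r → Fin n), Function.Injective ρ ∧ Function.Injective γ ∧
    d = ((Matrix.of fun (j : Fin m) (i : Fin n) => MvPowerSeries.pderiv k i (f j)).submatrix ρ γ).det}

theorem incl {m l : ℕ} (r : ℕ) (f : Fin m → MvPowerSeries (Fin n) k)
    (g : Fin l → MvPowerSeries (Fin n) k)
    (hg : ∀ s, g s ∈ Ideal.span (Set.range f)) :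
    Ideal.span (minors r g) ≤ Ideal.span (minors r f) ⊔ Ideal.span (Set.range f) := by
  classical
  rw [Ideal.span_le]
  rintro d ⟨ρ, γ, hρ, hγ, rfl⟩
  set T := Ideal.span (minors r f) ⊔ Ideal.span (Set.range f) with hT
  have hfT : ∀ j, Ideal.Quotient.mk T (f j) = 0 := fun j =>
    Ideal.Quotient.eq_zero_iff_mem.mpr (le_sup_right (a := Ideal.span (minors r f))
      (Ideal.subset_span ⟨j, rfl⟩))
  have hmT : ∀ d ∈ minors r f, Ideal.Quotient.mk T d = 0 := fun d hd =>
    Ideal.Quotient.eq_zero_iff_mem.mpr (le_sup_left (b := Ideal.span (Set.range f))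
      (Ideal.subset_span hd))
  have hg' : ∀ s, ∃ c : Fin m → MvPowerSeries (Fin n) k, ∑ j, c j * f j = g s := fun s =>
    (Ideal.mem_span_range_iff_exists_fun).mp (hg s)
  choose a ha using hg'
  rw [SetLike.mem_coe, ← Ideal.Quotient.eq_zero_iff_mem, RingHom.map_det]
  set π := Ideal.Quotient.mk T with hπ
  set P : Matrix (Fin r) (Fin m) (MvPowerSeries (Fin n) k ⧸ T) := fun t j => π (a (ρ t) j) with hP
  set N : Matrix (Fin m) (Fin r) (MvPowerSeries (Fin n) k ⧸ T) :=
    fun j u => π (MvPowerSeries.pderiv k (γ u) (f j)) with hN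
  have hPN : π.mapMatrix ((Matrix.of fun (j : Fin l) (i : Fin n) =>
      MvPowerSeries.pderiv k i (g j)).submatrix ρ γ) = P * N := by
    ext t u
    simp only [RingHom.mapMatrix_apply, Matrix.map_apply, Matrix.submatrix_apply, Matrix.of_apply,
      Matrix.mul_apply, hP, hN]
    rw [← ha (ρ t), map_sum, map_sum]
    refine Finset.sum_congr rfl fun j _ => ?_
    rw [Derivation.leibniz, map_add, smul_eq_mul, smul_eq_mul, map_mul, map_mul, hfT, zero_mul,
      add_zero]
  rw [hPN, det_mul_rect]
  refine Finset.sum_eq_zero fun σ _ => ?_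
  by_cases hσ : Function.Injective σ
  · have : N.submatrix σ id = π.mapMatrix ((Matrix.of fun (j : Fin m) (i : Fin n) =>
        MvPowerSeries.pderiv k i (f j)).submatrix σ γ) := by
      ext t u
      simp [hN]
    rw [this, ← RingHom.map_det, hmT _ ⟨σ, γ, hσ, hγ, rfl⟩, mul_zero]
  · have : ∃ i j, i ≠ j ∧ σ i = σ j := by
      by_contra hcon
      apply hσ
      intro i j hij
      by_contra hne
      exact hcon ⟨i, j, hne, hij⟩
    obtain ⟨i, j, hne, hij⟩ := this
    rw [Matrix.det_zero_of_row_eq hne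
      (by funext b; simp [Matrix.submatrix_apply, hij] : N.submatrix σ id i = N.submatrix σ id j),
      mul_zero]

theorem main6575 (m l r : ℕ)
    (f : Fin m → MvPowerSeries (Fin n) k) (g : Fin l → MvPowerSeries (Fin n) k)
    (hfg : Ideal.span (Set.range f) = Ideal.span (Set.range g)) :
    Ideal.span (minors r f) ⊔ Ideal.span (Set.range f) =
      Ideal.span (minors r g) ⊔ Ideal.span (Set.range g) := by
  apply le_antisymm
  · refine sup_le ?_ (hfg ▸ le_sup_right)
    refine incl r g f ?_
    intro s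
    rw [← hfg]
    exact Ideal.subset_span ⟨s, rfl⟩
  · refine sup_le ?_ (hfg ▸ le_sup_right)
    refine incl r f g ?_
    intro s
    rw [hfg]
    exact Ideal.subset_span ⟨s, rfl⟩

end Groth.Agent.Lib.Helper5.JacMin
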